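import Groth.Agent.EtAdic.K112.LHConst
import Groth.Agent.Sga7.H754.TotRes

/-!
# Hypercohomology of the derived direct image
-/

set_option autoImplicit false
universe u

open CategoryTheory CategoryTheory.Limits AlgebraicGeometry Opposite DerivedCategory
open CategoryTheory.Pretriangulated
open scoped Groth.Agent.Etcore.EtInst
open Groth.Agent.Etcore.EtInst Groth.Agent.Etcore.HpullCalc Groth.Agent.Etcore.HC

attribute [local instance] HasDerivedCategory.standard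

namespace K330.LHX

open Groth.Agent.Sga4h.LPull Groth.Agent.Sga7.H754.HDer Groth.Agent.Lefpen.H710.BettiSys K112.LH
open Groth.Agent.Etrest.DEtPush

theorem card_push {X Y : Scheme.{u}} (f : X ⟶ Y) (G : EtCoh.Ab X) (t : ℕ) :
    K112.LH.cd (K112.LH.FH Y) (t : ℤ) ((pushD f).obj (S0 G)) = Nat.card (HH X G t) := by
  let e1 : (Z0 Y ⟶ ((pushD f).obj (S0 G))⟦(t : ℤ)⟧) ≃ (Z0 Y ⟶ (pushD f).obj ((S0 G)⟦(t : ℤ)⟧)) :=
    (Iso.refl (Z0 Y)).homCongr (((pushD f).commShiftIso (t : ℤ)).app (S0 G)).symm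
  let e2 : (Z0 Y ⟶ (pushD f).obj ((S0 G)⟦(t : ℤ)⟧)) ≃ ((L f).obj (Z0 Y) ⟶ (S0 G)⟦(t : ℤ)⟧) :=
    ((dPullPush f).homEquiv (Z0 Y) ((S0 G)⟦(t : ℤ)⟧)).symm
  let e3 : ((L f).obj (Z0 Y) ⟶ (S0 G)⟦(t : ℤ)⟧) ≃ (Z0 X ⟶ (S0 G)⟦(t : ℤ)⟧) :=
    (LZ0 f).homCongr (Iso.refl _)
  let e4 : (Z0 X ⟶ (S0 G)⟦(t : ℤ)⟧) ≃ HH X G t :=
    (Abelian.Ext.homEquiv (X := EtCoh.const X ℤ) (Y := G) (n := t)).symm
  exact Nat.card_congr (((e1.trans e2).trans e3).trans e4)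

end K330.LHX
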