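import Groth.Agent.EtAdic.K112.LHConst
import Groth.Agent.Lefpen.H710.BettiFin

/-!
# Hypercohomology of finite powers of constant sheaves
-/

set_option autoImplicit false
universe u

open CategoryTheory CategoryTheory.Limits AlgebraicGeometry Opposite DerivedCategory
open CategoryTheory.Pretriangulated
open scoped Groth.Agent.Etcore.EtInst
open Groth.Agent.Etcore.EtInst Groth.Agent.Etcore.HpullCalc Groth.Agent.Etcore.HC

attribute [local instance] HasDerivedCategory.standard

namespace K330.LHX

open Groth.Agent.Sga4h.LPull Groth.Agent.Sga7.H754.HDer Groth.Agent.Lefpen.H710.BettiSys K112.LH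
open Groth.Agent.Lefpen.H710.BettiFin

/-- an additive functor commutes with finite powers -/
theorem card_pi {C : Type*} [Category* C] [Preadditive C] (G : C ⥤ AddCommGrpCat.{u}) [G.Additive] {P M : C} (b : ℕ)
    (s : Fin b → (M ⟶ P)) (p : Fin b → (P ⟶ M)) (h1 : ∀ i, s i ≫ p i = 𝟙 M) (h2 : ∀ i j, i ≠ j → s i ≫ p j = 0)
    (h3 : ∑ i, p i ≫ s i = 𝟙 P) : Nat.card (G.obj P) = Nat.card (G.obj M) ^ b := by
  classical
  have hs : ∀ {A B D : C} (f : A ⟶ B) (g : B ⟶ D) (x : G.obj A),
      (G.map g).hom ((G.map f).hom x) = (G.map (f ≫ g)).hom x := by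
    intro A B D f g x
    rw [G.map_comp]
    rfl
  let e : G.obj P ≃ (Fin b → G.obj M) :=
    { toFun := fun x i => (G.map (p i)).hom x
      invFun := fun y => ∑ i, (G.map (s i)).hom (y i)
      left_inv := fun x => by
        have e1 : ∀ i, (G.map (s i)).hom ((G.map (p i)).hom x) = (G.map (p i ≫ s i)).hom x := fun i => hs _ _ _
        change ∑ i, (G.map (s i)).hom ((G.map (p i)).hom x) = x
        rw [Finset.sum_congr rfl fun i _ => e1 i]
        have e2 : ∑ i, (G.map (p i ≫ s i)).hom x = (G.map (∑ i, p i ≫ s i)).hom x := by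
          rw [Functor.map_sum]
          exact (map_sum (AddMonoidHom.mk' (fun f : G.obj P ⟶ G.obj P => f.hom x) fun _ _ => rfl) _ _).symm
        rw [e2, h3, G.map_id]
        rfl
      right_inv := fun y => by
        funext j
        change (G.map (p j)).hom (∑ i, (G.map (s i)).hom (y i)) = y j
        rw [map_sum, Finset.sum_eq_single j]
        · rw [hs, h1, G.map_id]
          rfl
        · intro i _ hij
          rw [hs, h2 i j hij, G.map_zero]
          rfl
        · intro h
          exact (h (Finset.mem_univ j)).elim }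
  rw [Nat.card_congr e, Nat.card_fun, Nat.card_fin]

theorem cm_add (Y : Scheme.{u}) {A B : Type} [AddCommGroup A] [AddCommGroup B] (φ ψ : A →+ B) :
    cm Y (φ + ψ) = cm Y φ + cm Y ψ := by
  have := additive_constantSheaf Y
  unfold cm
  rw [← Functor.map_add]
  rfl

theorem cm_sum (Y : Scheme.{u}) {A B : Type} [AddCommGroup A] [AddCommGroup B] {ι : Type*} (t : Finset ι)
    (φ : ι → (A →+ B)) : cm Y (∑ i ∈ t, φ i) = ∑ i ∈ t, cm Y (φ i) :=
  map_sum (AddMonoidHom.mk' (fun φ : A →+ B => cm Y φ) (cm_add Y)) φ t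

theorem cd_pi (Y : Scheme.{u}) (M : Type) [AddCommGroup M] (b : ℕ) (j : ℤ) :
    K112.LH.cd (K112.LH.FH Y) j (S0 (EtCoh.const Y (Fin b → M))) =
      K112.LH.cd (K112.LH.FH Y) j (S0 (EtCoh.const Y M)) ^ b := by
  have hadd := additive_constantSheaf Y
  have := card_pi (singleFunctor (EtCoh.Ab Y) 0 ⋙ (FH Y).shift j) (P := EtCoh.const Y (Fin b → M))
    (M := EtCoh.const Y M) b (fun i => cm Y (AddMonoidHom.single (fun _ : Fin b => M) i))
    (fun i => cm Y (Pi.evalAddMonoidHom (fun _ : Fin b => M) i)) ?_ ?_ ?_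
  · exact this
  · intro i
    rw [cm_comp, ← cm_id Y]
    congr 1
    ext x
    simp
  · intro i j hij
    rw [cm_comp, ← cm_zero Y]
    congr 1
    ext x
    simp [hij.symm]
  · have h1 : ∀ i : Fin b, cm Y (Pi.evalAddMonoidHom (fun _ : Fin b => M) i) ≫
        cm Y (AddMonoidHom.single (fun _ : Fin b => M) i) =
        cm Y ((AddMonoidHom.single (fun _ : Fin b => M) i).comp (Pi.evalAddMonoidHom (fun _ : Fin b => M) i)) :=
      fun i => cm_comp Y _ _
    rw [Finset.sum_congr rfl fun i _ => h1 i, ← cm_sum, ← cm_id Y]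
    congr 1
    refine AddMonoidHom.ext fun x => funext fun j => ?_
    rw [AddMonoidHom.finsetSum_apply, Finset.sum_apply, Finset.sum_eq_single j]
    · simp
    · intro i _ hij
      simp [hij.symm]
    · intro h
      exact (h (Finset.mem_univ j)).elim

end K330.LHX
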